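import Groth.Agent.Lib.H15.PerfAdj.Dual
import Groth.Agent.Lib.H15.PerfAdj.Proj
import Groth.Agent.Lib.Perfect.Pullback
import Groth.Agent.Lib.DerivedOX.DualHomExists

/-!
# `a(K ⊗^L L) ≅ Lf^*K ⊗^L a(L)` for perfect `K`
-/

set_option autoImplicit false
set_option linter.style.haveILetI false
set_option linter.unusedSectionVars false

universe u

open CategoryTheory Limits AlgebraicGeometry HomologicalComplex

attribute [local instance] HasDerivedCategory.standard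

namespace Groth.Agent.Lib.H15.PerfAdj.Main

open Groth.Agent.Lib Groth.Agent.Lib.DerivedOX
open PullTranspose

variable {X : Scheme.{u}}

/-- `Q O ⊗^L P ≅ Q P`. -/
theorem nonempty_one_tensor {P : CochainComplex X.Modules ℤ} (hP : DCoh.IsKFlat P)
    [DCoh.HasLTensorCx P] :
    Nonempty ((DCoh.LTensorCx P).obj (DerivedCategory.Q.obj (DualFree.one X)) ≅
      DerivedCategory.Q.obj P) := by
  haveI := DualCompare.isIso_counit hP (DualFree.one X)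
  exact ⟨asIso (((DCoh.tensorCxQ P).totalLeftDerivedCounit DerivedCategory.Q
      (HomologicalComplex.quasiIso X.Modules (.up ℤ))).app (DualFree.one X)) ≪≫
    DerivedCategory.Q.mapIso (DualBidual.commCx (DualFree.one X) P) ≪≫
    DerivedCategory.Q.mapIso (DualFree.unitIso.app P).symm⟩

/-- `- ⊗^L B` on `D_QCoh`. -/
noncomputable abbrev TQ (B : CochainComplex X.Modules ℤ)
    (hB : DCoh.IsQCohD (DCoh.toD X B)) [DCoh.HasLTensorCx B] : DCoh.DQCoh X ⥤ DCoh.DQCoh X :=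
  ObjectProperty.lift _ (ObjectProperty.ι _ ⋙ DCoh.LTensorCx B) fun M =>
    QCohLocal.isQCohD_LTensorCx B hB M.property

/-- `RHom(B, -)` on `D_QCoh`. -/
noncomputable abbrev HQ {B : CochainComplex X.Modules ℤ} (hB : DCoh.IsKFlat B)
    (hperf : DCoh.IsPerfect (DerivedCategory.Q.obj B)) [DCoh.HasLTensorCx B] [DCoh.HasRSheafHom B] :
    DCoh.DQCoh X ⥤ DCoh.DQCoh X :=
  ObjectProperty.lift _ (ObjectProperty.ι _ ⋙ DCoh.RSheafHom B) fun M =>
    DualMain.isQCohD_RSheafHom hB (𝟙 B) hperf M.property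

/-- The adjunction on `D_QCoh`. -/
noncomputable def adjQ {B : CochainComplex X.Modules ℤ} (hB : DCoh.IsKFlat B)
    (hperf : DCoh.IsPerfect (DerivedCategory.Q.obj B)) [DCoh.HasLTensorCx B] [DCoh.HasRSheafHom B] :
    TQ B (Perfect.QCohD.isQCohD_of_isPerfect hperf) ⊣ HQ hB hperf :=
  (DCoh.RSheafHomAdj B).restrictFullyFaithful (ObjectProperty.fullyFaithfulι _)
    (ObjectProperty.fullyFaithfulι _) (ObjectProperty.liftCompιIso _ _ _).symm
    (ObjectProperty.liftCompιIso _ _ _).symm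

variable {Y : Scheme.{u}}

/-- `a(K ⊗^L L) ≅ Lf^*K ⊗^L a(L)`. -/
theorem nonempty_iso (f : X ⟶ Y) [DCoh.HasRpush f] (hf : DCoh.RpushPreservesQCoh f)
    (a : DCoh.DQCoh Y ⥤ DCoh.DQCoh X) (adj : DCoh.RpushQ f hf ⊣ a) [DCoh.HasLpull f]
    (K L : DCoh.DQCoh Y) (hK : DCoh.IsPerfect K.obj) (K' : CochainComplex Y.Modules ℤ)
    (hK' : Nonempty (DCoh.toD Y K' ≅ K.obj)) [DCoh.HasLTensorCx K']
    (hKL : DCoh.IsQCohD ((DCoh.LTensorCx K').obj L.obj)) (E : CochainComplex X.Modules ℤ)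
    (hE : Nonempty (DCoh.toD X E ≅ (a.obj L).obj)) [DCoh.HasLTensorCx E] :
    Nonempty ((a.obj ⟨(DCoh.LTensorCx K').obj L.obj, hKL⟩).obj ≅
      (DCoh.LTensorCx E).obj ((DCoh.Lpull f).obj K.obj)) := by
  obtain ⟨eK⟩ := hK'
  obtain ⟨eE⟩ := hE
  let P := (KFlat.res Y).obj K'
  haveI : QuasiIso ((KFlat.aug Y).app K') := KFlat.quasiIso_aug K'
  let eP : DerivedCategory.Q.obj P ≅ DerivedCategory.Q.obj K' :=
    asIso (DerivedCategory.Q.map ((KFlat.aug Y).app K'))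
  have hP : DCoh.IsKFlat P := KFlat.isKFlat_res K'
  have hPp : DCoh.IsPerfect (DerivedCategory.Q.obj P) :=
    Perfect.Triangle.isPerfect_of_iso (eP ≪≫ eK).symm hK
  haveI := LeftExists.hasLTensorCx P
  haveI := DualHomExists.hasRSheafHom P
  -- on `Y`
  obtain ⟨D, _, hD, hDp, ⟨eD⟩, ⟨τ₁⟩⟩ := Dual.exists_dual_iso hP hPp
  haveI := DualHomExists.hasRSheafHom D
  obtain ⟨P₂, _, -, -, ⟨eP₂⟩, ⟨τ₀⟩⟩ := Dual.exists_dual_iso hD hDp
  obtain ⟨bd₁⟩ := DualBidualPerfect.nonempty_dual_dual hD hPp eD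
  obtain ⟨c₀⟩ := Dual.nonempty_LTensorCx_iso (eP₂ ≪≫ bd₁ ≪≫ eP)
  -- on `X`
  let D' := (pullC f).obj D
  have hD' : DCoh.IsKFlat D' := KFlatPullback.isKFlat_pullback f hD
  haveI := isIso_counitCx f hD
  have hD'p : DCoh.IsPerfect (DerivedCategory.Q.obj D') :=
    Perfect.Triangle.isPerfect_of_iso (asIso ((counitCx f).app D)) (Perfect.Pullback.isPerfect_Lpull f hDp)
  haveI := LeftExists.hasLTensorCx D'
  haveI := DualHomExists.hasRSheafHom D'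
  obtain ⟨P', _, hP', hP'p, ⟨eP'⟩, ⟨τ₂⟩⟩ := Dual.exists_dual_iso hD' hD'p
  haveI := DualHomExists.hasRSheafHom P'
  obtain ⟨D₂, _, -, -, ⟨eD₂⟩, ⟨τ₃⟩⟩ := Dual.exists_dual_iso hP' hP'p
  obtain ⟨bd₂⟩ := DualBidualPerfect.nonempty_dual_dual hP' hD'p eP'
  obtain ⟨c₁⟩ := Dual.nonempty_LTensorCx_iso (eD₂ ≪≫ bd₂)
  obtain ⟨J⟩ := Proj.nonempty_iso f hD hDp
  -- `Lf^*P ≅ P'`
  let κ : DCoh.Rpush f ⋙ DCoh.RSheafHom P ≅ DCoh.RSheafHom P' ⋙ DCoh.Rpush f :=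
    Functor.isoWhiskerLeft _ τ₁.symm ≪≫ J ≪≫
      Functor.isoWhiskerRight (c₁.symm ≪≫ τ₃) (DCoh.Rpush f)
  let dA := PullPushAdj.derivedAdjunction f
  let l : DCoh.LTensorCx P ⋙ DCoh.Lpull f ≅ DCoh.Lpull f ⋙ DCoh.LTensorCx P' :=
    (((DCoh.RSheafHomAdj P).comp dA).ofNatIsoRight κ).leftAdjointUniq
      (dA.comp (DCoh.RSheafHomAdj P'))
  obtain ⟨u₁⟩ := nonempty_one_tensor hP
  obtain ⟨u₂⟩ := nonempty_one_tensor hP'
  have hone : DCoh.IsKFlat (DualFree.one Y) := GammaAcyclic.isKFlat_single (fun x => by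
    exact Module.Flat.of_linearEquiv (BettiExact.TorComp.stalkUnitEquiv Y x)) 0
  haveI := isIso_counitCx f hone
  let o : (DCoh.Lpull f).obj (DerivedCategory.Q.obj (DualFree.one Y)) ≅
      DerivedCategory.Q.obj (DualFree.one X) :=
    asIso ((counitCx f).app (DualFree.one Y)) ≪≫ DerivedCategory.Q.mapIso (UnitTensor.pullOneIso f 0)
  let eP' : (DCoh.Lpull f).obj K.obj ≅ DerivedCategory.Q.obj P' :=
    (DCoh.Lpull f).mapIso (eP ≪≫ eK).symm ≪≫ (DCoh.Lpull f).mapIso u₁.symm ≪≫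
      l.app (DerivedCategory.Q.obj (DualFree.one Y)) ≪≫ (DCoh.LTensorCx P').mapIso o ≪≫ u₂
  -- on `D_QCoh`
  let j : DCoh.RpushQ f hf ⋙ TQ D (Perfect.QCohD.isQCohD_of_isPerfect hDp) ≅
      TQ D' (Perfect.QCohD.isQCohD_of_isPerfect hD'p) ⋙ DCoh.RpushQ f hf :=
    NatIso.ofComponents (fun M => ObjectProperty.isoMk _ (J.app M.obj))
      (fun φ => ObjectProperty.hom_ext _ (J.hom.naturality φ.hom))
  let r : HQ hD hDp ⋙ a ≅ a ⋙ HQ hD' hD'p :=
    ((adj.comp (adjQ hD hDp)).ofNatIsoLeft j).rightAdjointUniq ((adjQ hD' hD'p).comp adj)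
  let n : (⟨(DCoh.LTensorCx K').obj L.obj, hKL⟩ : DCoh.DQCoh Y) ≅ (HQ hD hDp).obj L :=
    ObjectProperty.isoMk _ ((c₀.symm ≪≫ τ₀).app L.obj)
  haveI := DualCompare.isIso_counit hP' E
  haveI := TensorCoprod.isIso_counit_app_of_isKFlat E (DCoh.LTensorCx E)
    ((DCoh.tensorCxQ E).totalLeftDerivedCounit DerivedCategory.Q
      (HomologicalComplex.quasiIso X.Modules (.up ℤ))) hP'
  exact ⟨(ObjectProperty.ι _).mapIso (a.mapIso n ≪≫ r.app L) ≪≫
    τ₂.symm.app (a.obj L).obj ≪≫ (DCoh.LTensorCx P').mapIso eE.symm ≪≫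
    asIso (((DCoh.tensorCxQ P').totalLeftDerivedCounit DerivedCategory.Q
      (HomologicalComplex.quasiIso X.Modules (.up ℤ))).app E) ≪≫
    DerivedCategory.Q.mapIso (DualBidual.commCx E P') ≪≫
    (asIso (((DCoh.tensorCxQ E).totalLeftDerivedCounit DerivedCategory.Q
      (HomologicalComplex.quasiIso X.Modules (.up ℤ))).app P')).symm ≪≫
    (DCoh.LTensorCx E).mapIso eP'.symm⟩

end Groth.Agent.Lib.H15.PerfAdj.Main
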