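import Groth.Agent.Lib.DerivedOX.DualBidualPerfect
import Groth.Agent.Lib.DerivedOX.TensorAssoc
import Groth.Agent.Lib.RightAdjTensor.Trace

/-!
# Tensoring with the dual of a perfect object is `RHom`, naturally
-/

set_option autoImplicit false
set_option linter.style.haveILetI false
set_option linter.unusedSectionVars false

universe u

open CategoryTheory Limits AlgebraicGeometry HomologicalComplex

attribute [local instance] HasDerivedCategory.standard

namespace Groth.Agent.Lib.H15.PerfAdj.Dual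

open Groth.Agent.Lib Groth.Agent.Lib.DerivedOX Groth.Agent.Lib.RightAdjTensor
open DualHom DualFree DualGood

variable {X : Scheme.{u}}

/-- Isomorphic complexes in the derived category have isomorphic derived tensor functors. -/
theorem nonempty_LTensorCx_iso {B B' : CochainComplex X.Modules ℤ} [DCoh.HasLTensorCx B]
    [DCoh.HasLTensorCx B'] (e : DerivedCategory.Q.obj B ≅ DerivedCategory.Q.obj B') :
    Nonempty (DCoh.LTensorCx B ≅ DCoh.LTensorCx B') := by
  obtain ⟨B'', s, hs, g, hg⟩ := DerivedCategory.right_fac e.hom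
  haveI : QuasiIso s := (DerivedCategory.isIso_Q_map_iff_quasiIso _ _).1 hs
  haveI : IsIso (inv (DerivedCategory.Q.map s) ≫ DerivedCategory.Q.map g) := hg ▸ inferInstance
  haveI : IsIso (DerivedCategory.Q.map g) :=
    IsIso.of_isIso_comp_left (inv (DerivedCategory.Q.map s)) _
  haveI : QuasiIso g := (DerivedCategory.isIso_Q_map_iff_quasiIso _ _).1 inferInstance
  haveI := LeftExists.hasLTensorCx B''
  obtain ⟨i⟩ := Trace.nonempty_LTensorCx_congr s
  obtain ⟨j⟩ := Trace.nonempty_LTensorCx_congr g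
  exact ⟨i.symm ≪≫ j⟩

/-- For K-flat perfect `P` there is a K-flat perfect `H` with `- ⊗^L H ≅ RHom(P, -)` naturally. -/
theorem exists_dual_iso {P : CochainComplex X.Modules ℤ} (hP : DCoh.IsKFlat P)
    (hperf : DCoh.IsPerfect (DerivedCategory.Q.obj P)) [DCoh.HasLTensorCx P]
    [DCoh.HasRSheafHom P] :
    ∃ (H : CochainComplex X.Modules ℤ) (_ : DCoh.HasLTensorCx H), DCoh.IsKFlat H ∧
      DCoh.IsPerfect (DerivedCategory.Q.obj H) ∧
      Nonempty (DerivedCategory.Q.obj H ≅
        (DCoh.RSheafHom P).obj (DCoh.inD X (Coh.structureModule X))) ∧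
      Nonempty (DCoh.LTensorCx H ≅ DCoh.RSheafHom P) := by
  obtain ⟨J₀, i₀, h₀, q₀, -, n₀⟩ := DerCat.KInjExists.exists_kInjective_resolution (one X)
  haveI := h₀
  haveI := q₀
  let e₀ : DerivedCategory.Q.obj J₀ ≅ DCoh.inD X (Coh.structureModule X) :=
    (asIso (DerivedCategory.Q.map i₀)).symm ≪≫
      ((DerivedCategory.singleFunctorIsoCompQ X.Modules 0).app _).symm
  let H := (KFlat.res X).obj ((Hc P).obj J₀)
  let h : H ⟶ (Hc P).obj J₀ := (KFlat.aug X).app _
  haveI qh : QuasiIso h := KFlat.quasiIso_aug _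
  haveI hLH : DCoh.HasLTensorCx H := LeftExists.hasLTensorCx H
  haveI := LeftExists.hasLTensorCx ((DCoh.tensorCx.obj H).obj P)
  let m : (DCoh.tensorCx.obj H).obj P ⟶ J₀ := (DCoh.tensorCx.map h).app P ≫ ev P J₀
  let A := DCoh.RSheafHomAdj P
  let π : DCoh.LTensorCx H ⋙ DCoh.LTensorCx P ⟶ 𝟭 (DCoh.D X) :=
    (TensorAssoc.ltensorAssocIso H hP).hom ≫ Trace.tau i₀ m
  let τ : DCoh.LTensorCx H ⟶ DCoh.RSheafHom P :=
    { app := fun N => A.homEquiv _ N (π.app N)
      naturality := fun N N' φ => by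
        rw [← A.homEquiv_naturality_left, ← A.homEquiv_naturality_right]
        exact congrArg _ (π.naturality φ) }
  -- the test complexes
  have hτ : ∀ N, IsIso (τ.app N) := fun N => by
    let A₀ := (KFlat.res X).obj (DerivedCategory.Q.objPreimage N)
    let eA : DerivedCategory.Q.obj A₀ ≅ N :=
      asIso (DerivedCategory.Q.map ((KFlat.aug X).app _)) ≪≫ DerivedCategory.Q.objObjPreimageIso N
    suffices IsIso (τ.app (DerivedCategory.Q.obj A₀)) from (NatTrans.isIso_app_iff_of_iso τ eA).1 this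
    obtain ⟨J, c, hJ, qc, -, nJ⟩ :=
      DerCat.KInjExists.exists_kInjective_resolution ((DCoh.tensorCx.obj A₀).obj J₀)
    haveI := hJ
    haveI := qc
    have hA : DCoh.IsKFlat A₀ := KFlat.isKFlat_res _
    let d : Data X := ⟨A₀, J₀, J, hA, KFlat.isFlat_res_X _, h₀, hJ, n₀, nJ, e₀, c, qc⟩
    haveI hψ : QuasiIso (ψ d P) := DualPerfect.quasiIso_ψ d hperf
    haveI := Trace.isIso_den i₀ hA
    let φ : DerivedCategory.Q.obj A₀ ⟶ DerivedCategory.Q.obj J :=
      (Trace.den i₀).app A₀ ≫ DerivedCategory.Q.map c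
    haveI : IsIso (DerivedCategory.Q.map c) := inferInstance
    haveI : IsIso φ := inferInstanceAs (IsIso ((Trace.den i₀).app A₀ ≫ DerivedCategory.Q.map c))
    let cH := (DCoh.tensorCxQ H).totalLeftDerivedCounit DerivedCategory.Q
      (HomologicalComplex.quasiIso X.Modules (.up ℤ))
    let cP := (DCoh.tensorCxQ P).totalLeftDerivedCounit DerivedCategory.Q
      (HomologicalComplex.quasiIso X.Modules (.up ℤ))
    haveI : IsIso (cH.app A₀) := TensorCoprod.isIso_counit_app_of_isKFlat H (DCoh.LTensorCx H) cH hA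
    haveI : QuasiIso ((DCoh.tensorCx.obj A₀).map h) := TensorQis.quasiIso_left hA h
    let a : (DCoh.tensorCx.obj A₀).obj H ⟶ (DCoh.tensorCx.obj A₀).obj ((Hc P).obj J₀) :=
      (DCoh.tensorCx.obj A₀).map h
    haveI : IsIso (DerivedCategory.Q.map a) :=
      inferInstanceAs (IsIso (DerivedCategory.Q.map ((DCoh.tensorCx.obj A₀).map h)))
    haveI : IsIso (DerivedCategory.Q.map (ψ d P)) := inferInstance
    let w : DerivedCategory.Q.obj ((Hc P).obj J) ⟶
        (DCoh.RSheafHom P).obj (DerivedCategory.Q.obj J) :=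
      A.homEquiv _ _ (cP.app ((Hc P).obj J) ≫ DerivedCategory.Q.map (ev P J))
    haveI : IsIso w := isIso_of_yoneda_map_bijective w fun S => by
      let e := DerivedCategory.Q.objObjPreimageIso S
      obtain ⟨hi, hs⟩ := DualCompare.bijective_key hP nJ A (DerivedCategory.Q.objPreimage S)
      refine ⟨fun x y hxy => (cancel_epi e.hom).1 (hi ?_), fun y => ?_⟩
      · change (e.hom ≫ x) ≫ w = (e.hom ≫ y) ≫ w
        rw [Category.assoc, Category.assoc]
        exact congrArg (e.hom ≫ ·) hxy
      · obtain ⟨x, hx⟩ := hs (e.hom ≫ y)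
        refine ⟨e.inv ≫ x, ?_⟩
        change (e.inv ≫ x) ≫ w = y
        change x ≫ w = e.hom ≫ y at hx
        rw [Category.assoc, hx, Iso.inv_hom_id_assoc]
    have key : τ.app (DerivedCategory.Q.obj A₀) ≫ (DCoh.RSheafHom P).map φ =
        (cH.app A₀ ≫ DerivedCategory.Q.map a ≫ DerivedCategory.Q.map (ψ d P)) ≫ w := by
      refine (A.homEquiv _ _).symm.injective ?_
      rw [A.homEquiv_naturality_right_symm, A.homEquiv_naturality_left_symm]
      simp only [τ, w, Equiv.symm_apply_apply]
      have hfac : ((TensorAssoc.ltensorAssocIso H hP).hom.app (DerivedCategory.Q.obj A₀)) ≫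
          ((DCoh.tensorCxQ ((DCoh.tensorCx.obj H).obj P)).totalLeftDerivedCounit DerivedCategory.Q
            (HomologicalComplex.quasiIso X.Modules (.up ℤ))).app A₀ =
          (TensorAssoc.compCounit H P).app A₀ :=
        by
          haveI := TensorAssoc.isLeftDerived_compCounit H hP
          simp [TensorAssoc.ltensorAssocIso, Functor.leftDerivedUnique]
          try exact Functor.leftDerived_fac_app _ _ _ _ _ _
      have hl : π.app (DerivedCategory.Q.obj A₀) ≫ φ = (TensorAssoc.compCounit H P).app A₀ ≫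
          DerivedCategory.Q.map ((DCoh.tensorCx.obj A₀).map m ≫ c) := by
        simp only [π, φ, NatTrans.comp_app, Category.assoc, Trace.tau_app]
        rw [reassoc_of% (Trace.tauPre_comp_den i₀ m A₀), ← hfac, Functor.map_comp]
        simp only [Trace.num, NatTrans.comp_app, Functor.whiskerRight_app, Category.assoc]
        rfl
      have hc : (Tc P).map a ≫ (Tc P).map (ψ d P) ≫ ev P J =
          asc A₀ H P ≫ (DCoh.tensorCx.obj A₀).map m ≫ c := by
        have h1 : (Tc P).map (ψ d P) ≫ ev P J = asc A₀ ((Hc P).obj J₀) P ≫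
            (DCoh.tensorCx.obj A₀).map (ev P J₀) ≫ c :=
          (Adjunction.homEquiv_counit ..).symm.trans (homEquiv_symm_ψ d P)
        rw [h1]
        erw [reassoc_of% (asc_natural_mid A₀ h P)]
        rw [← Functor.map_comp_assoc]
        rfl
      refine hl.trans ?_
      simp only [TensorAssoc.compCounit, NatTrans.comp_app, Functor.whiskerRight_app,
        Functor.whiskerLeft_app, Functor.associator_hom_app, Functor.associator_inv_app,
        Functor.map_comp, Category.assoc]
      erw [Category.id_comp, Category.id_comp, Category.id_comp]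
      refine congrArg (_ ≫ ·) ?_
      have n1 := cP.naturality a
      have n2 := cP.naturality (ψ d P)
      dsimp only [Functor.comp_map] at n1 n2
      erw [Equiv.symm_apply_apply, reassoc_of% n2, reassoc_of% n1]
      refine congrArg (_ ≫ ·) ?_
      simp only [DCoh.tensorCxQ, Functor.comp_map]
      rw [← Functor.map_comp, ← Functor.map_comp, ← Functor.map_comp, ← Functor.map_comp]
      exact congrArg (fun t => DerivedCategory.Q.map t) hc.symm
    haveI : IsIso (τ.app (DerivedCategory.Q.obj A₀) ≫ (DCoh.RSheafHom P).map φ) := by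
      rw [key]; infer_instance
    exact IsIso.of_isIso_comp_right _ ((DCoh.RSheafHom P).map φ)
  haveI := hτ
  haveI : IsIso τ := NatIso.isIso_of_isIso_app τ
  obtain ⟨eK⟩ := DualCompare.nonempty_RSheafHom_iso (K := P) hP (𝟙 P) n₀
  refine ⟨H, hLH, KFlat.isKFlat_res _, ?_,
    ⟨asIso (DerivedCategory.Q.map h) ≪≫ eK ≪≫ (DCoh.RSheafHom P).mapIso e₀⟩, ⟨asIso τ⟩⟩
  obtain ⟨J₀', hp, ⟨e'⟩⟩ := DualMain.exists_dual hP (𝟙 P) hperf
  exact Perfect.Triangle.isPerfect_of_iso
    (e' ≪≫ ((DCoh.RSheafHom P).mapIso e₀).symm ≪≫ eK.symm ≪≫ (asIso (DerivedCategory.Q.map h)).symm) hp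

end Groth.Agent.Lib.H15.PerfAdj.Dual
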