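import Groth.Agent.Lib.H15.PerfAdj.Proj
import Groth.Agent.Lib.DerivedOX.ProjectionQCoh
import Groth.Agent.Lib.ShrinkTri.QCohGen

/-!
# The projection formula on `D_QCoh`, naturally
-/

set_option autoImplicit false
set_option linter.style.haveILetI false
set_option linter.unusedSectionVars false

universe u

open CategoryTheory Limits AlgebraicGeometry HomologicalComplex

attribute [local instance] HasDerivedCategory.standard

namespace Groth.Agent.Lib.H15.PerfAdj.QProj

open Groth.Agent.Lib Groth.Agent.Lib.DerivedOX Groth.Agent.Lib.RightAdjTensor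
open UnitTensor PullTranspose ProjectionMap DualBidual Proj

variable {X Y : Scheme.{u}} (f : X ⟶ Y) [DCoh.HasLpull f] [DCoh.HasRpush f]
  {D : CochainComplex Y.Modules ℤ} (hD : DCoh.IsKFlat D)
  (hqc : DCoh.IsQCohD (DerivedCategory.Q.obj D))

include hD hqc in
theorem isIso_p [QuasiCompact f] [QuasiSeparated f] (I : CochainComplex X.Modules ℤ) [I.IsKInjective]
    (hI : DCoh.IsQCohD (DerivedCategory.Q.obj I)) : IsIso (p f D I) := by
  let B := (GammaAcyclic.pushC f).obj I
  haveI := LeftExists.hasLTensorCx B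
  haveI := LeftExists.hasLTensorCx I
  haveI := ProjectionQCoh.isIso_projMap_of_isQCohD (f := f) (g := 𝟙 B) (I := I) hI hqc
  haveI := isIso_tensorCounit B hD
  haveI := isIso_right f (I := I) hD
  have h : (tensorCounit B).app D ≫ p f D I =
      (projMap f (𝟙 B)).app (DerivedCategory.Q.obj D) ≫ (DCoh.Rpush f).map ((right f).app D) := by
    have e : (preMap f (𝟙 B)).app D ≫ (right f).app D = (left f (𝟙 B)).app D :=
      preMap_comp_right f (𝟙 B) D
    rw [← adjMap_app] at e
    change (tensorCounit B).app D ≫ (PullPushAdj.derivedAdjunction f).homEquiv _ _ _ =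
      (PullPushAdj.derivedAdjunction f).homEquiv _ _ _ ≫ _
    rw [← Adjunction.homEquiv_naturality_left, ← Adjunction.homEquiv_naturality_right]
    refine congrArg _ ?_
    erw [e]
    rfl
  haveI : IsIso ((tensorCounit B).app D ≫ p f D I) := by rw [h]; infer_instance
  exact IsIso.of_isIso_comp_left ((tensorCounit B).app D) _

include hD hqc in
/-- `Rf_*M ⊗^L D ≅ Rf_*(M ⊗^L f^*D)`, naturally in `M`. -/
theorem nonempty_iso [QuasiCompact f] [QuasiSeparated f] [DCoh.HasLTensorCx D] [DCoh.HasLTensorCx ((pullC f).obj D)] :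
    Nonempty (ObjectProperty.ι (DCoh.IsQCohD (X := X)) ⋙ DCoh.Rpush f ⋙ DCoh.LTensorCx D ≅
      ObjectProperty.ι (DCoh.IsQCohD (X := X)) ⋙ DCoh.LTensorCx ((pullC f).obj D) ⋙ DCoh.Rpush f) := by
  let D' := (pullC f).obj D
  have hD' : DCoh.IsKFlat D' := KFlatPullback.isKFlat_pullback f hD
  let cD := (DCoh.tensorCxQ D).totalLeftDerivedCounit DerivedCategory.Q
    (HomologicalComplex.quasiIso Y.Modules (.up ℤ))
  let cD' := (DCoh.tensorCxQ D').totalLeftDerivedCounit DerivedCategory.Q
    (HomologicalComplex.quasiIso X.Modules (.up ℤ))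
  haveI : ∀ T, IsIso (cD.app T) := fun T => DualCompare.isIso_counit hD T
  haveI : ∀ T, IsIso (cD'.app T) := fun T => DualCompare.isIso_counit hD' T
  let F := DCoh.Rpush f ⋙ DCoh.LTensorCx D
  let G := DCoh.LTensorCx D' ⋙ DCoh.Rpush f
  -- the component at a complex
  let comp : ∀ I : CochainComplex X.Modules ℤ,
      (DCoh.LTensorCx D).obj (DerivedCategory.Q.obj ((GammaAcyclic.pushC f).obj I)) ⟶
        G.obj (DerivedCategory.Q.obj I) := fun I =>
    cD.app ((GammaAcyclic.pushC f).obj I) ≫
      DerivedCategory.Q.map (commT ((GammaAcyclic.pushC f).obj I) D) ≫ p f D I ≫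
      (DCoh.Rpush f).map (DerivedCategory.Q.map (commT D' I) ≫ inv (cD'.app I))
  have hcomp : ∀ {I I' : CochainComplex X.Modules ℤ} (t : I ⟶ I'),
      (DCoh.LTensorCx D).map (DerivedCategory.Q.map ((GammaAcyclic.pushC f).map t)) ≫ comp I' =
        comp I ≫ G.map (DerivedCategory.Q.map t) := fun {I I'} t => by
    have h1 := cD.naturality ((GammaAcyclic.pushC f).map t)
    dsimp only [Functor.comp_map] at h1
    have h2 : (DCoh.tensorCx.map ((GammaAcyclic.pushC f).map t)).app D ≫
        commT ((GammaAcyclic.pushC f).obj I') D =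
        commT ((GammaAcyclic.pushC f).obj I) D ≫
          (DCoh.tensorCx.obj D).map ((GammaAcyclic.pushC f).map t) :=
      commT_left ((GammaAcyclic.pushC f).map t) D
    have h3 : (DCoh.tensorCx.obj D').map t ≫ commT D' I' = commT D' I ≫ (DCoh.tensorCx.map t).app D' :=
      commT_right D' t
    have h4 : DerivedCategory.Q.map ((DCoh.tensorCx.map t).app D') ≫ inv (cD'.app I') =
        inv (cD'.app I) ≫ (DCoh.LTensorCx D').map (DerivedCategory.Q.map t) := by
      rw [IsIso.comp_inv_eq, Category.assoc]
      refine (IsIso.eq_inv_comp _).2 ?_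
      exact (cD'.naturality t).symm
    simp only [comp, G, Category.assoc, Functor.comp_map, ← Functor.map_comp]
    erw [reassoc_of% h1]
    refine congrArg (_ ≫ ·) ?_
    simp only [DCoh.tensorCxQ, Functor.comp_map]
    erw [← Functor.map_comp_assoc]
    rw [show ((DCoh.tensorCx (X := Y)).flip.obj D).map ((GammaAcyclic.pushC f).map t) =
      (DCoh.tensorCx.map ((GammaAcyclic.pushC f).map t)).app D from rfl, h2,
      Functor.map_comp_assoc, reassoc_of% (p_natural f D t), ← Functor.map_comp,
      ← Functor.map_comp_assoc, h3, Functor.map_comp_assoc, h4]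
  -- resolutions of all objects
  choose Ic ι hI hι using fun M : DCoh.D X =>
    DerCat.KInjExists.hasKInjRes (DerivedCategory.Q.objPreimage M)
  haveI := hI
  haveI := hι
  let e : ∀ M, DerivedCategory.Q.obj (Ic M) ≅ M := fun M =>
    (asIso (DerivedCategory.Q.map (ι M))).symm ≪≫ DerivedCategory.Q.objObjPreimageIso M
  haveI hu : ∀ M, IsIso ((Unit.unitI f).app (Ic M)) := fun M => Unit.isIso_unitI f _
  haveI : ∀ I : CochainComplex X.Modules ℤ, IsIso (DerivedCategory.Q.map
      (commT ((GammaAcyclic.pushC f).obj I) D)) := fun I =>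
    inferInstanceAs (IsIso (DerivedCategory.Q.map (commCx _ _).hom))
  haveI : ∀ I : CochainComplex X.Modules ℤ, IsIso (DerivedCategory.Q.map (commT D' I)) := fun I =>
    inferInstanceAs (IsIso (DerivedCategory.Q.map (commCx _ _).hom))
  let η : ObjectProperty.ι (DCoh.IsQCohD (X := X)) ⋙ F ⟶ ObjectProperty.ι (DCoh.IsQCohD (X := X)) ⋙ G :=
    { app := fun M₀ => let M := M₀.obj; (DCoh.LTensorCx D).map
        ((DCoh.Rpush f).map (e M).inv ≫ inv ((Unit.unitI f).app (Ic M))) ≫
        comp (Ic M) ≫ G.map (e M).hom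
      naturality := fun M₀ M₀' φ₀ => by
        let φ := φ₀.hom
        let M := M₀.obj
        let M' := M₀'.obj
        obtain ⟨t, ht⟩ := (DualCompare.Q_map_bijective_aux (T := Ic M) (J := Ic M')).1
          ((e M).hom ≫ φ ≫ (e M').inv)
        have hu' : inv ((Unit.unitI f).app (Ic M)) ≫
            DerivedCategory.Q.map ((GammaAcyclic.pushC f).map t) =
            (DCoh.Rpush f).map (DerivedCategory.Q.map t) ≫ inv ((Unit.unitI f).app (Ic M')) := by
          rw [IsIso.inv_comp_eq, ← Category.assoc, IsIso.eq_comp_inv]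
          exact (Unit.unitI f).naturality t
        have h5 := hcomp t
        dsimp only [F, Functor.comp_map, Functor.comp_obj]
        change (DCoh.LTensorCx D).map ((DCoh.Rpush f).map φ) ≫ _ = _ ≫ G.map φ
        rw [← Functor.map_comp_assoc]
        have h6 : (DCoh.Rpush f).map φ ≫ (DCoh.Rpush f).map (e M').inv ≫
            inv ((Unit.unitI f).app (Ic M')) =
            ((DCoh.Rpush f).map (e M).inv ≫ inv ((Unit.unitI f).app (Ic M))) ≫
              DerivedCategory.Q.map ((GammaAcyclic.pushC f).map t) := by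
          rw [Category.assoc, hu', ht]
          simp only [Functor.map_comp, Category.assoc]
          rw [← (DCoh.Rpush f).map_comp_assoc (e M).inv, Iso.inv_hom_id, CategoryTheory.Functor.map_id,
            Category.id_comp]
        rw [h6, Functor.map_comp_assoc, reassoc_of% h5, Category.assoc]
        simp only [Category.assoc, ← Functor.map_comp]
        rw [ht]
        simp [comp, φ, M, M'] }
  haveI : ∀ M, IsIso (η.app M) := fun M => by
    haveI := isIso_p f hD hqc (Ic M.obj) ((DCoh.IsQCohD (X := X)).prop_of_iso (e M.obj).symm M.property)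
    dsimp only [η, comp]
    infer_instance
  exact ⟨@asIso _ _ _ _ η (NatIso.isIso_of_isIso_app η)⟩

end Groth.Agent.Lib.H15.PerfAdj.QProj
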