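import Groth.Agent.Lib.H15.PerfAdj.QProj
import Groth.Agent.Lib.H15.PerfAdj.Dual
import Groth.Agent.Lib.DerivedOX.QCohLocal
import Groth.Agent.Lib.DerivedOX.DualHomExists

/-!
# `f^! RHom(G₁, G₂) ≅ RHom(Lf^*G₁, f^!G₂)`
-/

set_option autoImplicit false
set_option linter.style.haveILetI false
set_option linter.unusedSectionVars false

universe u

open CategoryTheory Limits AlgebraicGeometry HomologicalComplex

attribute [local instance] HasDerivedCategory.standard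

namespace Groth.Agent.Lib.H15.PerfAdj.Shriek

open Groth.Agent.Lib Groth.Agent.Lib.DerivedOX

/-- The right adjoint of `Rf_*` on `D_QCoh` commutes with internal Hom. -/
theorem nonempty_iso {X Y : Scheme.{u}} (f : X ⟶ Y) [QuasiCompact f] [QuasiSeparated f]
    [DCoh.HasRpush f] [DCoh.HasLpull f] (hf : DCoh.RpushPreservesQCoh f)
    {a : DCoh.DQCoh Y ⥤ DCoh.DQCoh X} (adj : DCoh.RpushQ f hf ⊣ a)
    (P : CochainComplex Y.Modules ℤ) [DCoh.HasLTensorCx P] [DCoh.HasRSheafHom P]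
    (hP : DCoh.IsQCohD (DCoh.toD Y P)) (G₂ : DCoh.DQCoh Y)
    (hq : DCoh.IsQCohD ((DCoh.RSheafHom P).obj G₂.obj))
    (P' : CochainComplex X.Modules ℤ) [DCoh.HasLTensorCx P'] [DCoh.HasRSheafHom P']
    (hP' : Nonempty (DCoh.toD X P' ≅ (DCoh.Lpull f).obj (DCoh.toD Y P)))
    (hq' : DCoh.IsQCohD ((DCoh.RSheafHom P').obj (a.obj G₂).obj)) :
    Nonempty ((a.obj ⟨(DCoh.RSheafHom P).obj G₂.obj, hq⟩).obj ≅
      (DCoh.RSheafHom P').obj (a.obj G₂).obj) := by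
  obtain ⟨eP'⟩ := hP'
  let D := (KFlat.res Y).obj P
  haveI : QuasiIso ((KFlat.aug Y).app P) := KFlat.quasiIso_aug P
  let eD : DerivedCategory.Q.obj D ≅ DerivedCategory.Q.obj P :=
    asIso (DerivedCategory.Q.map ((KFlat.aug Y).app P))
  have hD : DCoh.IsKFlat D := KFlat.isKFlat_res P
  have hDq : DCoh.IsQCohD (DerivedCategory.Q.obj D) := (DCoh.IsQCohD (X := Y)).prop_of_iso eD.symm hP
  let D' := (PullTranspose.pullC f).obj D
  haveI := LeftExists.hasLTensorCx D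
  haveI := LeftExists.hasLTensorCx D'
  haveI := PullTranspose.isIso_counitCx f hD
  obtain ⟨j⟩ := QProj.nonempty_iso f hD hDq
  obtain ⟨c⟩ := Dual.nonempty_LTensorCx_iso (B := D) (B' := P) eD
  obtain ⟨c'⟩ := Dual.nonempty_LTensorCx_iso (B := D') (B' := P')
    ((asIso ((PullTranspose.counitCx f).app D)).symm ≪≫ (DCoh.Lpull f).mapIso eD ≪≫ eP'.symm)
  have hP'q : DCoh.IsQCohD (DCoh.toD X P') :=
    (DCoh.IsQCohD (X := X)).prop_of_iso eP'.symm (QCohLocal.isQCohD_Lpull f hP)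
  let ιX := ObjectProperty.ι (DCoh.IsQCohD (X := X))
  let ιY := ObjectProperty.ι (DCoh.IsQCohD (X := Y))
  let T : DCoh.DQCoh X ⥤ DCoh.DQCoh X := ObjectProperty.lift _ (ιX ⋙ DCoh.LTensorCx P') fun M =>
    QCohLocal.isQCohD_LTensorCx P' hP'q M.property
  let θ : ιX ⋙ DCoh.Rpush f ⋙ DCoh.LTensorCx P ≅ ιX ⋙ DCoh.LTensorCx P' ⋙ DCoh.Rpush f :=
    Functor.isoWhiskerLeft ιX (Functor.isoWhiskerLeft (DCoh.Rpush f) c.symm) ≪≫ j ≪≫
      Functor.isoWhiskerLeft ιX (Functor.isoWhiskerRight c' (DCoh.Rpush f))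
  let fX := ObjectProperty.fullyFaithfulι (DCoh.IsQCohD (X := X))
  let fY := ObjectProperty.fullyFaithfulι (DCoh.IsQCohD (X := Y))
  let φ : ∀ M : DCoh.DQCoh X, (M ⟶ a.obj ⟨(DCoh.RSheafHom P).obj G₂.obj, hq⟩) ≃
      (M ⟶ (⟨(DCoh.RSheafHom P').obj (a.obj G₂).obj, hq'⟩ : DCoh.DQCoh X)) := fun M =>
    ((((((adj.homEquiv M ⟨(DCoh.RSheafHom P).obj G₂.obj, hq⟩).symm.trans fY.homEquiv).trans
      ((DCoh.RSheafHomAdj P).homEquiv ((DCoh.Rpush f).obj M.obj) G₂.obj).symm).trans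
      (Iso.homCongr (θ.app M) (Iso.refl G₂.obj))).trans
      (fY.homEquiv (X := (DCoh.RpushQ f hf).obj (T.obj M)) (Y := G₂)).symm).trans
      ((adj.homEquiv (T.obj M) G₂).trans fX.homEquiv)).trans
      (((DCoh.RSheafHomAdj P').homEquiv M.obj (a.obj G₂).obj).trans
        (fX.homEquiv (X := M) (Y := ⟨(DCoh.RSheafHom P').obj (a.obj G₂).obj, hq'⟩)).symm)
  refine ⟨ιX.mapIso (Yoneda.ext _ _ (fun {Z} => φ Z) (fun {Z} => (φ Z).symm)
    (fun {Z} g => (φ Z).symm_apply_apply g) (fun {Z} g => (φ Z).apply_symm_apply g) ?_)⟩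
  intro Z Z' g x
  apply fX.homEquiv.injective
  simp only [φ, Equiv.trans_apply, Equiv.apply_symm_apply]
  rw [adj.homEquiv_naturality_left_symm]
  change (DCoh.RSheafHomAdj P').homEquiv Z'.obj _ (fX.homEquiv ((adj.homEquiv (T.obj Z') G₂)
      (fY.homEquiv.symm (θ.inv.app Z' ≫ ((DCoh.RSheafHomAdj P).homEquiv _ G₂.obj).symm
        ((DCoh.Rpush f).map g.hom ≫ ((adj.homEquiv Z _).symm x).hom) ≫ 𝟙 _)))) =
    g.hom ≫ (DCoh.RSheafHomAdj P').homEquiv Z.obj _ (fX.homEquiv ((adj.homEquiv (T.obj Z) G₂)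
      (fY.homEquiv.symm (θ.inv.app Z ≫ ((DCoh.RSheafHomAdj P).homEquiv _ G₂.obj).symm
        ((adj.homEquiv Z _).symm x).hom ≫ 𝟙 _))))
  rw [Adjunction.homEquiv_naturality_left_symm, ← Adjunction.homEquiv_naturality_left]
  refine congrArg _ ?_
  have h := θ.inv.naturality g
  change (DCoh.Rpush f).map ((DCoh.LTensorCx P').map g.hom) ≫ _ = _ ≫ _ at h
  simp only [Category.comp_id]
  erw [← reassoc_of% h]
  exact congrArg InducedCategory.Hom.hom (adj.homEquiv_naturality_left (T.map g) _)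

end Groth.Agent.Lib.H15.PerfAdj.Shriek
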